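import Cfsg.Agent.Lib.Semisimple.Classes
import Mathlib.FieldTheory.KummerPolynomial
import Mathlib.LinearAlgebra.Matrix.GeneralLinearGroup.Defs

/-!
# Elements of `GL_n(q)` with scalar `r`-th power, `r` a prime dividing `q - 1`

* `sc` : scalars; `mem_center_iff`
* `factor_dvd` : irreducible factors of the characteristic polynomial divide `X^r - c`
* `isConj_of_pow` : with equal characteristic polynomials they are conjugate
* `exists_roots` : for `c = 1` the characteristic polynomial is a product of `X - ζ^j`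
* `charpoly_nonpower`, `exists_pow_eq` : for `c` not an `r`-th power
-/

set_option autoImplicit false
set_option linter.unusedSectionVars false

namespace Cfsg.Agent.PrimeClassPGL

open Polynomial Matrix

variable {F : Type*} [Field F] {n : ℕ}

/-- Scalars. -/
def sc (n : ℕ) (F : Type*) [Field F] : Fˣ →* GL (Fin n) F :=
  Units.map (Matrix.scalar (Fin n)).toMonoidHom

theorem sc_mat (u : Fˣ) :
    ((sc n F u : GL (Fin n) F) : Matrix (Fin n) (Fin n) F) = Matrix.scalar (Fin n) (u : F) := rfl

theorem sc_comm (u : Fˣ) (g : GL (Fin n) F) : Commute (sc n F u) g :=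
  Units.ext (Matrix.scalar_commute (u : F) (fun r => Commute.all _ _) _).eq

theorem sc_injective (hn : 0 < n) : Function.Injective (sc n F) := fun u v h => by
  have h' := congrArg (fun g : GL (Fin n) F => (g : Matrix (Fin n) (Fin n) F) ⟨0, hn⟩ ⟨0, hn⟩) h
  simp only [sc_mat, Matrix.scalar_apply, Matrix.diagonal_apply_eq] at h'
  exact Units.ext h'

theorem mem_center_iff (hn : 0 < n) {g : GL (Fin n) F} :
    g ∈ Subgroup.center (GL (Fin n) F) ↔ ∃ u, sc n F u = g := by
  constructor
  · intro h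
    rw [Matrix.GeneralLinearGroup.center_eq_range_scalar] at h
    obtain ⟨u, hu⟩ := h
    exact ⟨u, hu⟩
  · rintro ⟨u, rfl⟩
    exact Subgroup.mem_center_iff.2 fun h => (sc_comm u h).eq.symm

theorem sc_mem_center (hn : 0 < n) (u : Fˣ) : sc n F u ∈ Subgroup.center (GL (Fin n) F) :=
  (mem_center_iff hn).2 ⟨u, rfl⟩

variable {r : ℕ} {c : Fˣ} {g : GL (Fin n) F}

theorem aeval_pow_sub (hg : g ^ r = sc n F c) :
    aeval (toLin' (g : Matrix (Fin n) (Fin n) F)) (X ^ r - C (c : F)) = 0 := by
  have h : (g : Matrix (Fin n) (Fin n) F) ^ r = Matrix.scalar (Fin n) (c : F) := by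
    rw [← Units.val_pow_eq_pow_val, hg, sc_mat]
  have h0 : aeval (g : Matrix (Fin n) (Fin n) F) (X ^ r - C (c : F)) = 0 := by
    rw [map_sub, map_pow, aeval_X, aeval_C, h, Matrix.algebraMap_eq_diagonal]
    simp [Matrix.scalar_apply]
  show aeval ((Matrix.toLinAlgEquiv' (R := F) (n := Fin n)).toAlgHom (g : Matrix (Fin n) (Fin n) F))
    (X ^ r - C (c : F)) = 0
  rw [Polynomial.aeval_algHom_apply, h0, map_zero]

/-- Irreducible factors of the characteristic polynomial divide `X^r - c`. -/
theorem factor_dvd (hg : g ^ r = sc n F c) {p : F[X]} (hp : Irreducible p)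
    (hdvd : p ∣ (g : Matrix (Fin n) (Fin n) F).charpoly) : p ∣ X ^ r - C (c : F) := by
  rw [← Matrix.charpoly_toLin'] at hdvd
  obtain ⟨v, hv, hpv⟩ := Semisimple.exists_aeval_eq_zero_of_dvd_charpoly _ hp hdvd
  rw [← Semisimple.orbitMap_eq_zero_iff _ hv hp hpv, Semisimple.orbitMap_apply, aeval_pow_sub hg,
    LinearMap.zero_apply]

theorem isSemisimple_of_pow (hr : (r : F) ≠ 0) (hg : g ^ r = sc n F c) :
    Module.End.IsSemisimple (toLin' (g : Matrix (Fin n) (Fin n) F)) :=
  Module.End.isSemisimple_of_squarefree_aeval_eq_zero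
    (Polynomial.separable_X_pow_sub_C (c : F) hr c.ne_zero).squarefree (aeval_pow_sub hg)

/-- Such elements are determined up to conjugacy by the characteristic polynomial. -/
theorem isConj_of_pow {h : GL (Fin n) F} {d : Fˣ} (hr : (r : F) ≠ 0) (hg : g ^ r = sc n F c)
    (hh : h ^ r = sc n F d)
    (hc : (g : Matrix (Fin n) (Fin n) F).charpoly = (h : Matrix (Fin n) (Fin n) F).charpoly) :
    IsConj g h := by
  obtain ⟨e, he⟩ := Semisimple.exists_equiv_of_charpoly_eq _ _ (isSemisimple_of_pow hr hg)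
    (isSemisimple_of_pow hr hh) (by rw [Matrix.charpoly_toLin', Matrix.charpoly_toLin', hc])
  let u : GL (Fin n) F := Matrix.GeneralLinearGroup.toLin.symm
    (LinearMap.GeneralLinearGroup.ofLinearEquiv e)
  rw [isConj_iff]
  refine ⟨u, mul_inv_eq_iff_eq_mul.2 (Units.ext (Matrix.toLin'.injective ?_))⟩
  rw [Units.val_mul, Units.val_mul, Matrix.toLin'_mul, Matrix.toLin'_mul]
  have hu : toLin' (u : Matrix (Fin n) (Fin n) F) = e.toLinearMap := by
    show toLin' (LinearMap.toMatrix' e.toLinearMap) = _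
    exact Matrix.toLin'_toMatrix' _
  rw [hu]
  exact LinearMap.ext he

/-- For `c = 1`: the characteristic polynomial splits, with roots powers of `ζ`. -/
theorem exists_roots {ζ : F} (hr : 0 < r) (hζ : IsPrimitiveRoot ζ r) (hg : g ^ r = 1) :
    (g : Matrix (Fin n) (Fin n) F).charpoly =
        ((g : Matrix (Fin n) (Fin n) F).charpoly.roots.map fun x => X - Polynomial.C x).prod ∧
      (g : Matrix (Fin n) (Fin n) F).charpoly.roots.card = n ∧
      ∀ x ∈ (g : Matrix (Fin n) (Fin n) F).charpoly.roots, ∃ i < r, ζ ^ i = x := by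
  have hg' : g ^ r = sc n F 1 := by rw [map_one, hg]
  set P := (g : Matrix (Fin n) (Fin n) F).charpoly with hP
  have hPm : P.Monic := Matrix.charpoly_monic _
  have hs : P.Splits := by
    refine Polynomial.splits_iff_splits.2 (.inr fun {p} hp hdvd => ?_)
    have h1 := factor_dvd hg' hp hdvd
    rw [Units.val_one, map_one, Polynomial.X_pow_sub_one_eq_prod hr hζ] at h1
    obtain ⟨x, -, hx⟩ := hp.prime.exists_mem_finset_dvd h1
    rw [Polynomial.degree_eq_degree_of_associated ((hp.associated_of_dvd (irreducible_X_sub_C x)) hx),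
      degree_X_sub_C]
  refine ⟨(hs.eq_prod_roots_of_monic hPm), ?_, fun x hx => ?_⟩
  · rw [← hs.natDegree_eq_card_roots, hP, Matrix.charpoly_natDegree_eq_dim, Fintype.card_fin]
  · rw [mem_roots hPm.ne_zero] at hx
    have h1 : (X - Polynomial.C x) ∣ X ^ r - Polynomial.C ((1 : Fˣ) : F) :=
      factor_dvd hg' (irreducible_X_sub_C x) (dvd_iff_isRoot.2 hx)
    rw [dvd_iff_isRoot, IsRoot, eval_sub, eval_pow, eval_X, eval_C, Units.val_one, sub_eq_zero] at h1
    haveI : NeZero r := ⟨hr.ne'⟩
    exact hζ.eq_pow_of_pow_eq_one h1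

/-- For `c` not a power: `charpoly = (X^r - c)^k`. -/
theorem charpoly_nonpower (hr : r.Prime) (hg : g ^ r = sc n F c) (hc : ∀ b : F, b ^ r ≠ c) :
    ∃ k, n = r * k ∧ (g : Matrix (Fin n) (Fin n) F).charpoly = (X ^ r - C (c : F)) ^ k := by
  have hirr : Irreducible (X ^ r - C (c : F)) := X_pow_sub_C_irreducible_of_prime hr hc
  have key : ∀ (m : ℕ) (P : F[X]), P.natDegree ≤ m → P.Monic →
      (∀ p, Irreducible p → p ∣ P → p ∣ X ^ r - C (c : F)) → ∃ k, P = (X ^ r - C (c : F)) ^ k := by
    intro m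
    induction m with
    | zero =>
      intro P hd hm _
      exact ⟨0, by rw [pow_zero, ← hm.natDegree_eq_zero]; omega⟩
    | succ m ih =>
      intro P hd hm hP
      by_cases h0 : P.natDegree = 0
      · exact ⟨0, by rw [pow_zero, ← hm.natDegree_eq_zero]; exact h0⟩
      · obtain ⟨p, hpm, hp, hdvd⟩ := exists_monic_irreducible_factor P (fun hu => h0
          (natDegree_eq_zero_of_isUnit hu))
        have he : p = X ^ r - C (c : F) := eq_of_monic_of_associated hpm
          (monic_X_pow_sub_C _ hr.ne_zero) (hp.associated_of_dvd hirr (hP p hp hdvd))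
        subst he
        obtain ⟨P', rfl⟩ := hdvd
        have hm' : P'.Monic := hpm.of_mul_monic_left hm
        rw [hpm.natDegree_mul hm', natDegree_X_pow_sub_C] at hd
        obtain ⟨k, rfl⟩ := ih P' (by have := hr.pos; omega) hm'
          fun p hp hd' => hP p hp (hd'.mul_left _)
        exact ⟨k + 1, by rw [pow_succ']⟩
  obtain ⟨k, hk⟩ := key _ _ le_rfl (Matrix.charpoly_monic (g : Matrix (Fin n) (Fin n) F))
    (fun p hp hd => factor_dvd hg hp hd)
  refine ⟨k, ?_, hk⟩
  have h := congrArg natDegree hk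
  rw [Matrix.charpoly_natDegree_eq_dim, natDegree_pow, natDegree_X_pow_sub_C, Fintype.card_fin] at h
  rw [h, mul_comm]

/-- Existence of block companion elements. -/
theorem exists_pow_eq (hr : 0 < r) (hdvd : r ∣ n) (c : Fˣ) : ∃ g : GL (Fin n) F, g ^ r = sc n F c := by
  obtain ⟨k, rfl⟩ := hdvd
  set P : F[X] := X ^ r - C (c : F) with hP
  have hm : P.Monic := monic_X_pow_sub_C _ hr.ne'
  let pb := AdjoinRoot.powerBasis hm.ne_zero
  have hdim : pb.dim = r := natDegree_X_pow_sub_C
  let A := Algebra.leftMulMatrix pb.basis (AdjoinRoot.root P)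
  have hA : A ^ r = algebraMap F (Matrix (Fin pb.dim) (Fin pb.dim) F) (c : F) := by
    rw [← map_pow, show AdjoinRoot.root P ^ r = algebraMap F (AdjoinRoot P) (c : F) by
      rw [← sub_eq_zero, AdjoinRoot.algebraMap_eq, ← AdjoinRoot.mk_X, ← map_pow, ← AdjoinRoot.mk_C,
        ← map_sub, ← hP, AdjoinRoot.mk_self], AlgHom.commutes]
  let e : Fin pb.dim × Fin k ≃ Fin (r * k) :=
    (Equiv.prodCongr (finCongr hdim) (Equiv.refl _)).trans finProdFinEquiv
  let M : Matrix (Fin (r * k)) (Fin (r * k)) F :=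
    Matrix.reindexAlgEquiv F F e (Matrix.blockDiagonal fun _ : Fin k => A)
  have hM : M ^ r = Matrix.scalar (Fin (r * k)) (c : F) := by
    show (Matrix.reindexAlgEquiv F F e (Matrix.blockDiagonal fun _ : Fin k => A)) ^ r = _
    rw [← map_pow, ← Matrix.blockDiagonal_pow]
    have hb : Matrix.blockDiagonal ((fun _ : Fin k => A) ^ r) =
        algebraMap F (Matrix (Fin pb.dim × Fin k) (Fin pb.dim × Fin k) F) (c : F) := by
      ext ⟨i, a⟩ ⟨j, b⟩
      simp [Matrix.blockDiagonal_apply, Pi.pow_apply, hA, Matrix.algebraMap_eq_diagonal,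
        Matrix.diagonal_apply]
      by_cases hab : a = b <;> by_cases hij : i = j <;> simp [hab, hij]
    rw [hb, AlgEquiv.commutes]
    rfl
  have hu : IsUnit M := by
    rw [← isUnit_pow_iff hr.ne', hM]
    exact c.isUnit.map (Matrix.scalar (Fin (r * k)))
  exact ⟨hu.unit, Units.ext (by rw [Units.val_pow_eq_pow_val, sc_mat]; exact hM)⟩

end Cfsg.Agent.PrimeClassPGL
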