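import Cfsg.Agent.Lib.PrimeClassPGL.Basic

/-!
# Classes of elements of prime order `r ∣ q - 1` in `PGL_n(q)`

* `card_nonscalar` : multisets of eigenvalue exponents
* `card_diag_classes`, `card_nondiag_classes`, `card_classes`
-/

set_option autoImplicit false
set_option linter.unusedSectionVars false

namespace Cfsg.Agent.PrimeClassPGL

open Polynomial Matrix

variable {F : Type*} [Field F] [Finite F] {n r : ℕ}

/-- `PGL`. -/
abbrev PG (n : ℕ) (F : Type*) [Field F] : Type _ :=
  GL (Fin n) F ⧸ Subgroup.center (GL (Fin n) F)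

/-- The class of a lift. -/
def cls (g : GL (Fin n) F) : ConjClasses (PG n F) := ConjClasses.mk (QuotientGroup.mk g)

theorem cls_eq_iff (hn : 0 < n) {g h : GL (Fin n) F} :
    cls g = cls h ↔ ∃ u, IsConj (g * sc n F u) h := by
  rw [cls, cls, ConjClasses.mk_eq_mk_iff_isConj, isConj_iff]
  constructor
  · rintro ⟨c, hc⟩
    obtain ⟨c, rfl⟩ := QuotientGroup.mk_surjective c
    rw [← QuotientGroup.mk_inv, ← QuotientGroup.mk_mul, ← QuotientGroup.mk_mul, QuotientGroup.eq] at hc
    obtain ⟨u, hu⟩ := (mem_center_iff hn).1 hc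
    refine ⟨u, isConj_iff.2 ⟨c, ?_⟩⟩
    calc c * (g * sc n F u) * c⁻¹ = c * g * (sc n F u * c⁻¹) := by group
      _ = c * g * (c⁻¹ * sc n F u) := by rw [(sc_comm u c⁻¹).eq]
      _ = h := by rw [hu]; group
  · rintro ⟨u, hu⟩
    obtain ⟨c, hc⟩ := isConj_iff.1 hu
    refine ⟨QuotientGroup.mk c, ?_⟩
    rw [← hc, ← QuotientGroup.mk_inv, ← QuotientGroup.mk_mul, ← QuotientGroup.mk_mul, QuotientGroup.eq]
    have : (c * g * c⁻¹)⁻¹ * (c * (g * sc n F u) * c⁻¹) = sc n F u := by
      calc (c * g * c⁻¹)⁻¹ * (c * (g * sc n F u) * c⁻¹) = c * (sc n F u * c⁻¹) := by group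
        _ = c * (c⁻¹ * sc n F u) := by rw [(sc_comm u c⁻¹).eq]
        _ = sc n F u := by group
    rw [this]; exact sc_mem_center hn u

theorem orderOf_mk_eq_iff (hn : 0 < n) (hr : r.Prime) (g : GL (Fin n) F) :
    orderOf (QuotientGroup.mk g : PG n F) = r ↔ (∃ c, g ^ r = sc n F c) ∧ ∀ c, g ≠ sc n F c := by
  haveI := Fact.mk hr
  rw [orderOf_eq_prime_iff, ← QuotientGroup.mk_pow, QuotientGroup.eq_one_iff, Ne,
    QuotientGroup.eq_one_iff, mem_center_iff hn, mem_center_iff hn]
  constructor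
  · rintro ⟨⟨c, hc⟩, h⟩; exact ⟨⟨c, hc.symm⟩, fun c hc' => h ⟨c, hc'.symm⟩⟩
  · rintro ⟨⟨c, hc⟩, h⟩; exact ⟨⟨c, hc.symm⟩, fun ⟨c', hc'⟩ => h c' hc'.symm⟩

/-- Exponent multisets. -/
abbrev Exps (r n : ℕ) : Type := {s : Sym (ZMod r) n // ∀ x, s ≠ Sym.replicate n x}

theorem card_nonscalar (hn : 0 < n) (hr : 0 < r) :
    Nat.card (Exps r n) = Nat.choose (n + r - 1) (r - 1) - r := by
  classical
  haveI : NeZero r := ⟨hr.ne'⟩
  obtain ⟨n, rfl⟩ : ∃ m, n = m + 1 := ⟨n - 1, by omega⟩
  have e : Exps r (n + 1) ≃ {s : Sym (ZMod r) (n + 1) //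
      ¬ s ∈ Finset.univ.image (Sym.replicate (α := ZMod r) (n + 1))} :=
    Equiv.subtypeEquivRight fun s => by simp [eq_comm]
  rw [Nat.card_congr e, Nat.card_eq_fintype_card, Fintype.card_subtype_compl, Sym.card_sym_eq_choose,
    ZMod.card]
  have hc : Fintype.card {s : Sym (ZMod r) (n + 1) //
      s ∈ Finset.univ.image (Sym.replicate (α := ZMod r) (n + 1))} = r := by
    rw [Fintype.card_coe, Finset.card_image_of_injective _ (Sym.replicate_right_injective (Nat.succ_ne_zero n)),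
      Finset.card_univ, ZMod.card]
  have hc' : ∀ inst : Fintype {s : Sym (ZMod r) (n + 1) //
      s ∈ Finset.univ.image (Sym.replicate (α := ZMod r) (n + 1))}, @Fintype.card _ inst = r :=
    fun inst => Eq.trans (by rw [Subsingleton.elim inst (Subtype.fintype _)]) hc
  rw [hc']
  rw [show r + (n + 1) - 1 = n + 1 + r - 1 by omega,
    Nat.choose_symm_of_eq_add (a := n + 1) (b := r - 1) (by omega)]

section Zeta

variable [NeZero r] {ζ : F} (hζ : IsPrimitiveRoot ζ r)

/-- `j ↦ ζ^j`. -/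
def ee (ζ : F) (j : ZMod r) : F := ζ ^ j.val

include hζ in
theorem ee_add (a b : ZMod r) : ee ζ (a + b) = ee ζ a * ee ζ b := by
  rw [ee, ee, ee, ← pow_add, ZMod.val_add]
  exact (pow_eq_pow_mod _ hζ.pow_eq_one).symm

include hζ in
theorem ee_injective : Function.Injective (ee (r := r) ζ) := fun a b h =>
  ZMod.val_injective r (hζ.pow_inj a.val_lt b.val_lt h)

include hζ in
theorem ee_pow (a : ZMod r) : ee ζ a ^ r = 1 := by
  rw [ee, ← pow_mul, mul_comm, pow_mul, hζ.pow_eq_one, one_pow]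

/-- The diagonal element with given exponents. -/
noncomputable def dg (ζ : F) (hζ0 : ζ ≠ 0) (d : Fin n → ZMod r) : GL (Fin n) F :=
  Units.map (Matrix.diagonalRingHom (Fin n) F).toMonoidHom
    (MulEquiv.piUnits.symm fun i => Units.mk0 (ee ζ (d i)) (pow_ne_zero _ hζ0))

theorem dg_mat (hζ0 : ζ ≠ 0) (d : Fin n → ZMod r) :
    ((dg ζ hζ0 d : GL (Fin n) F) : Matrix (Fin n) (Fin n) F) = diagonal fun i => ee ζ (d i) := rfl

theorem roots_dg (hζ0 : ζ ≠ 0) (d : Fin n → ZMod r) :
    ((dg ζ hζ0 d : GL (Fin n) F) : Matrix (Fin n) (Fin n) F).charpoly.roots =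
      (Finset.univ.val.map d).map (ee ζ) := by
  rw [dg_mat, Matrix.charpoly_diagonal, Finset.prod_eq_multiset_prod,
    show (Finset.univ.val.map fun i => X - Polynomial.C (ee ζ (d i))) =
      ((Finset.univ.val.map d).map (ee ζ)).map fun x => X - Polynomial.C x by
      simp [Multiset.map_map, Function.comp_def]]
  exact Polynomial.roots_multiset_prod_X_sub_C _

theorem exists_tuple (s : Sym (ZMod r) n) : ∃ d : Fin n → ZMod r, Finset.univ.val.map d = s.1 := by
  refine ⟨fun i => s.1.toList.get (i.cast (by rw [Multiset.length_toList, s.2])), ?_⟩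
  rw [Fin.univ_val_map]
  conv_rhs => rw [← Multiset.coe_toList s.1]
  congr 1
  apply List.ext_getElem
  · simp [s.2]
  · intro i h1 h2
    simp
    rfl

/-- The chosen diagonal element. -/
noncomputable def diagOf (ζ : F) (hζ0 : ζ ≠ 0) (s : Sym (ZMod r) n) : GL (Fin n) F :=
  dg ζ hζ0 (exists_tuple s).choose

theorem roots_diagOf (hζ0 : ζ ≠ 0) (s : Sym (ZMod r) n) :
    ((diagOf ζ hζ0 s : GL (Fin n) F) : Matrix (Fin n) (Fin n) F).charpoly.roots = s.1.map (ee ζ) := by
  rw [diagOf, roots_dg, (exists_tuple s).choose_spec]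

variable (hζ0 : ζ ≠ 0)

include hζ in
theorem diagOf_pow (s : Sym (ZMod r) n) : diagOf ζ hζ0 s ^ r = 1 := by
  refine Units.ext ?_
  rw [Units.val_pow_eq_pow_val, diagOf, dg_mat, Matrix.diagonal_pow, Units.val_one,
    ← Matrix.diagonal_one]
  congr 1
  funext i
  exact ee_pow hζ _

include hζ in
theorem scalar_eq (j : ZMod r) :
    sc n F (Units.mk0 (ee ζ j) (pow_ne_zero _ hζ0)) = dg ζ hζ0 fun _ => j :=
  Units.ext rfl

include hζ in
theorem mul_scalar_roots (s : Sym (ZMod r) n) (j : ZMod r) :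
    ((diagOf ζ hζ0 s * sc n F (Units.mk0 (ee ζ j) (pow_ne_zero _ hζ0)) : GL (Fin n) F) :
      Matrix (Fin n) (Fin n) F).charpoly.roots = (s.1.map (· + j)).map (ee ζ) := by
  have h : diagOf ζ hζ0 s * sc n F (Units.mk0 (ee ζ j) (pow_ne_zero _ hζ0)) =
      dg ζ hζ0 fun i => (exists_tuple s).choose i + j := by
    refine Units.ext ?_
    rw [Units.val_mul, diagOf, dg_mat, dg_mat, sc_mat, Matrix.scalar_apply, Matrix.diagonal_mul_diagonal]
    congr 1
    funext i
    exact (ee_add hζ _ _).symm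
  rw [h, roots_dg]
  have hs := (exists_tuple s).choose_spec
  generalize (exists_tuple s).choose = d at hs ⊢
  rw [← hs]
  simp [Multiset.map_map, Function.comp_def]

/-- Rotation. -/
def rot (s : Sym (ZMod r) n) (j : ZMod r) : Sym (ZMod r) n := s.map (· + j)

theorem rot_val (s : Sym (ZMod r) n) (j : ZMod r) : (rot s j).1 = s.1.map (· + j) := rfl

include hζ in
theorem isConj_iff_roots (hr : (r : F) ≠ 0) {g h : GL (Fin n) F} (hg : g ^ r = 1) (hh : h ^ r = 1) :
    IsConj g h ↔ (g : Matrix (Fin n) (Fin n) F).charpoly.roots =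
      (h : Matrix (Fin n) (Fin n) F).charpoly.roots := by
  constructor
  · intro hc
    rw [Semisimple.charpoly_conj_gl hc]
  · intro hroots
    refine isConj_of_pow hr (c := 1) (d := 1) (by rw [map_one, hg]) (by rw [map_one, hh]) ?_
    rw [(exists_roots (NeZero.pos r) hζ hg).1, (exists_roots (NeZero.pos r) hζ hh).1, hroots]

include hζ in
theorem cls_diag_eq_iff (hn : 0 < n) (hr : (r : F) ≠ 0) (s t : Sym (ZMod r) n) :
    cls (diagOf ζ hζ0 s) = cls (diagOf ζ hζ0 t) ↔ ∃ j, t = rot s j := by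
  rw [cls_eq_iff hn]
  constructor
  · rintro ⟨u, hu⟩
    have hpow : (diagOf ζ hζ0 s * sc n F u) ^ r = 1 := by
      obtain ⟨c, hc⟩ := isConj_iff.1 hu
      have h1 : (c * (diagOf ζ hζ0 s * sc n F u) * c⁻¹) ^ r = 1 := by rw [hc]; exact diagOf_pow hζ hζ0 t
      rw [conj_pow, mul_inv_eq_one] at h1
      exact mul_left_cancel (h1.trans (mul_one c).symm)
    have hur : (u : F) ^ r = 1 := by
      rw [((sc_comm u _).symm).mul_pow, diagOf_pow hζ hζ0, one_mul, ← map_pow, ← map_one (sc n F)] at hpow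
      have := congrArg Units.val (sc_injective hn hpow)
      simpa using this
    obtain ⟨i, hi, hiu⟩ := hζ.eq_pow_of_pow_eq_one hur
    refine ⟨(i : ZMod r), Subtype.ext (Multiset.map_injective (ee_injective hζ) ?_)⟩
    have hu' : u = Units.mk0 (ee ζ (i : ZMod r)) (pow_ne_zero _ hζ0) := by
      refine Units.ext ?_
      show (u : F) = ee ζ (i : ZMod r)
      rw [ee, ZMod.val_natCast, Nat.mod_eq_of_lt hi, hiu]
    have h := ((isConj_iff_roots hζ hr hpow (diagOf_pow hζ hζ0 t)).1 hu)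
    rw [hu', mul_scalar_roots hζ hζ0, roots_diagOf] at h
    exact h.symm
  · rintro ⟨j, rfl⟩
    refine ⟨Units.mk0 (ee ζ j) (pow_ne_zero _ hζ0), ?_⟩
    refine (isConj_iff_roots hζ hr ?_ (diagOf_pow hζ hζ0 _)).2 ?_
    · rw [((sc_comm _ _).symm).mul_pow, diagOf_pow hζ hζ0, one_mul, ← map_pow]
      rw [show (Units.mk0 (ee ζ j) (pow_ne_zero _ hζ0) : Fˣ) ^ r = 1 from
        Units.ext (by rw [Units.val_pow_eq_pow_val, Units.val_one]; exact ee_pow hζ j),
        map_one]
    · rw [mul_scalar_roots hζ hζ0, roots_diagOf, rot_val]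

include hζ in
theorem diagOf_not_scalar (hn : 0 < n) (s : Sym (ZMod r) n) :
    (∀ c, diagOf ζ hζ0 s ≠ sc n F c) ↔ ∀ x, s ≠ Sym.replicate n x := by
  constructor
  · rintro h x rfl
    refine h (Units.mk0 (ee ζ x) (pow_ne_zero _ hζ0)) ?_
    rw [scalar_eq hζ hζ0, diagOf]
    congr 1
    funext i
    have hmem : (exists_tuple (Sym.replicate n x)).choose i ∈
        Finset.univ.val.map (exists_tuple (Sym.replicate n x)).choose :=
      Multiset.mem_map_of_mem _ (Finset.mem_univ i)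
    rw [(exists_tuple (Sym.replicate n x)).choose_spec] at hmem
    exact Multiset.eq_of_mem_replicate hmem
  · intro h c hc
    refine h ((exists_tuple s).choose ⟨0, hn⟩) (Subtype.ext ?_)
    refine (exists_tuple s).choose_spec.symm.trans ?_
    refine Multiset.eq_replicate.2 ⟨by simp, fun y hy => ?_⟩
    obtain ⟨i, -, rfl⟩ := Multiset.mem_map.1 hy
    have hdiag : ∀ i, ee ζ ((exists_tuple s).choose i) = c := fun i => by
      have := congrArg (fun g : GL (Fin n) F => (g : Matrix (Fin n) (Fin n) F) i i) hc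
      rw [diagOf] at this
      simp only [dg_mat, sc_mat, Matrix.scalar_apply, Matrix.diagonal_apply_eq] at this
      exact this
    exact ee_injective hζ ((hdiag i).trans (hdiag _).symm)

theorem rot_zero (s : Sym (ZMod r) n) : rot s 0 = s := by
  refine Subtype.ext ?_
  show s.1.map (· + 0) = s.1
  simp

theorem rot_rot (s : Sym (ZMod r) n) (i j : ZMod r) : rot (rot s i) j = rot s (i + j) := by
  refine Subtype.ext ?_
  show (s.1.map (· + i)).map (· + j) = s.1.map (· + (i + j))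
  simp [Multiset.map_map, Function.comp_def, add_assoc]

theorem const_count [Fact r.Prime] {s : Sym (ZMod r) n} {j : ZMod r} (hj : j ≠ 0) (h : rot s j = s) :
    ∀ x y, s.1.count x = s.1.count y := by
  classical
  have h1 : ∀ x, s.1.count (x + j) = s.1.count x := fun x => by
    conv_lhs => rw [← h, rot_val, Multiset.count_map_eq_count' _ _ (add_left_injective j) x]
  have h2 : ∀ (k : ℕ) x, s.1.count (x + (k : ZMod r) * j) = s.1.count x := by
    intro k
    induction k with
    | zero => simp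
    | succ k ih => intro x; rw [Nat.cast_succ, add_mul, one_mul, ← add_assoc, h1, ih]
  intro x y
  have := h2 ((y - x) * j⁻¹).val x
  rw [ZMod.natCast_zmod_val, mul_assoc, inv_mul_cancel₀ hj, mul_one, add_sub_cancel] at this
  exact this.symm

theorem const_mul [Fact r.Prime] {s : Sym (ZMod r) n} (h : ∀ x y, s.1.count x = s.1.count y)
    (x : ZMod r) : r * s.1.count x = n := by
  classical
  conv_rhs => rw [← s.2, ← Multiset.sum_count_eq_card (s := (Finset.univ : Finset (ZMod r)))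
    (fun a _ => Finset.mem_univ a)]
  rw [Finset.sum_congr rfl fun y _ => h y x, Finset.sum_const, Finset.card_univ, ZMod.card, smul_eq_mul]

include hζ in
/-- Classes with a diagonalisable lift. -/
theorem card_diag_classes [Fact r.Prime] (hn : 2 ≤ n) (hr : (r : F) ≠ 0) :
    r * Nat.card {C : ConjClasses (PG n F) //
        ∃ g, cls g = C ∧ g ^ r = 1 ∧ ∀ c, g ≠ sc n F c} =
      Nat.card (Exps r n) + (r - 1) * (if r ∣ n then 1 else 0) := by
  classical
  have hζ0 : ζ ≠ 0 := hζ.ne_zero (NeZero.ne r)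
  set T := {C : ConjClasses (PG n F) // ∃ g, cls g = C ∧ g ^ r = 1 ∧ ∀ c, g ≠ sc n F c}
  let f : Exps r n → T := fun s => ⟨cls (diagOf ζ hζ0 s.1), _, rfl, diagOf_pow hζ hζ0 _,
    (diagOf_not_scalar hζ hζ0 (by omega) _).2 s.2⟩
  have hsurj : Function.Surjective f := by
    rintro ⟨C, g, rfl, hg, hns⟩
    obtain ⟨-, hcard, hroots⟩ := exists_roots (NeZero.pos r) hζ hg
    set R := (g : Matrix (Fin n) (Fin n) F).charpoly.roots
    obtain ⟨m, hm⟩ : ∃ m : Multiset (ZMod r), m.map (ee ζ) = R := by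
      refine ⟨R.map (Function.invFun (ee ζ)), ?_⟩
      rw [Multiset.map_map]
      conv_rhs => rw [← Multiset.map_id R]
      refine Multiset.map_congr rfl fun x hx => ?_
      obtain ⟨i, hi, hix⟩ := hroots x hx
      exact Function.invFun_eq ⟨(i : ZMod r), by rw [ee, ZMod.val_natCast, Nat.mod_eq_of_lt hi, hix]⟩
    let s : Sym (ZMod r) n := ⟨m, by rw [← hcard, ← hm, Multiset.card_map]⟩
    have hconj : IsConj (diagOf ζ hζ0 s) g :=
      (isConj_iff_roots hζ hr (diagOf_pow hζ hζ0 s) hg).2 ((roots_diagOf hζ0 s).trans hm)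
    refine ⟨⟨s, (diagOf_not_scalar hζ hζ0 (by omega) s).1 fun c hc => ?_⟩, Subtype.ext ?_⟩
    · obtain ⟨d, hd⟩ := isConj_iff.1 hconj
      exact hns c (by rw [← hd, hc, ← (sc_comm c d).eq, mul_inv_cancel_right])
    · exact (cls_eq_iff (by omega)).2 ⟨1, by rw [map_one, mul_one]; exact hconj⟩
  have hfib : ∀ s t : Exps r n, f s = f t ↔ ∃ j, t.1 = rot s.1 j := fun s t =>
    Subtype.ext_iff.trans (cls_diag_eq_iff hζ hζ0 (by omega) hr s.1 t.1)
  have hmemrot : ∀ (s : Exps r n) (j : ZMod r), ∀ x, rot s.1 j ≠ Sym.replicate n x := by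
    intro s j x h
    refine s.2 (x - j) ?_
    have h1 := congrArg (fun z => rot z (-j)) h
    simp only [rot_rot, add_neg_cancel, rot_zero] at h1
    rw [h1]
    refine Subtype.ext ?_
    show (Multiset.replicate n x).map (· + -j) = Multiset.replicate n (x - j)
    rw [Multiset.map_replicate, sub_eq_add_neg]
  haveI := Fintype.ofFinite T
  have hsum : Nat.card (Exps r n) = ∑ x : T, Nat.card {s : Exps r n // f s = x} := by
    rw [← Nat.card_sigma]
    exact Nat.card_congr (Equiv.sigmaFiberEquiv f).symm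
  have hfree : ∀ s : Exps r n, (∀ j, j ≠ 0 → rot s.1 j ≠ s.1) →
      Nat.card {t : Exps r n // f t = f s} = r := by
    intro s hs
    refine (Nat.card_congr (Equiv.ofBijective (fun j : ZMod r =>
      (⟨⟨rot s.1 j, hmemrot s j⟩, ((hfib s _).2 ⟨j, rfl⟩).symm⟩ : {t : Exps r n // f t = f s}))
      ⟨?_, ?_⟩)).symm.trans (Nat.card_zmod r)
    · intro i j hij
      by_contra hne
      have h1 : rot s.1 i = rot s.1 j := congrArg (fun z => z.1.1) hij
      have h2 := congrArg (fun z => rot z (-j)) h1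
      simp only [rot_rot, add_neg_cancel, rot_zero] at h2
      exact hs _ (by rwa [← sub_eq_add_neg, sub_ne_zero]) h2
    · rintro ⟨t, ht⟩
      obtain ⟨j, hj⟩ := (hfib s t).1 ht.symm
      exact ⟨j, Subtype.ext (Subtype.ext hj.symm)⟩
  by_cases hdvd : r ∣ n
  · rw [if_pos hdvd, mul_one]
    obtain ⟨k, hk⟩ := hdvd
    let s₀ : Sym (ZMod r) n := ⟨∑ x : ZMod r, Multiset.replicate k x, by
      simp [map_sum, hk]⟩
    have hc₀ : ∀ x, s₀.1.count x = k := fun x => by
      simp [s₀, Multiset.count_sum', Multiset.count_replicate]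
    have hs₀ : ∀ x, s₀ ≠ Sym.replicate n x := by
      intro x h
      have h1 := hc₀ (x + 1)
      have hk0 : k ≠ 0 := by rintro rfl; omega
      rw [h] at h1
      simp [Sym.replicate, Multiset.count_replicate] at h1
      omega
    have hfix : ∀ j, rot s₀ j = s₀ := fun j => by
      apply Subtype.ext
      ext x
      rw [rot_val, hc₀]
      have := Multiset.count_map_eq_count' (· + j) s₀.1 (add_left_injective j) (x - j)
      simp only [sub_add_cancel] at this
      rw [this, hc₀]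
    have huniq : ∀ s : Exps r n, ∀ j, j ≠ 0 → rot s.1 j = s.1 → s.1 = s₀ := fun s j hj h => by
      apply Subtype.ext
      ext x
      rw [hc₀]
      have h1 := const_mul (const_count hj h) x
      exact Nat.eq_of_mul_eq_mul_left (NeZero.pos r) (h1.trans hk)
    set x₀ := f ⟨s₀, hs₀⟩
    have hval : ∀ x : T, Nat.card {s : Exps r n // f s = x} + (if x = x₀ then r - 1 else 0) = r := by
      intro x
      obtain ⟨s, rfl⟩ := hsurj x
      by_cases hx : f s = x₀
      · rw [if_pos hx, hx]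
        have : Nat.card {t : Exps r n // f t = x₀} = 1 := by
          rw [Nat.card_eq_one_iff_unique]
          refine ⟨⟨fun a b => ?_⟩, ⟨⟨_, rfl⟩⟩⟩
          obtain ⟨i, hi⟩ := (hfib ⟨s₀, hs₀⟩ a.1).1 a.2.symm
          obtain ⟨j, hj⟩ := (hfib ⟨s₀, hs₀⟩ b.1).1 b.2.symm
          exact Subtype.ext (Subtype.ext (by rw [hi, hj, hfix, hfix]))
        have := NeZero.pos r
        omega
      · rw [if_neg hx, add_zero]
        exact hfree s fun j hj h => hx (congrArg f (Subtype.ext (huniq s j hj h)))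
    calc r * Nat.card T = ∑ x : T, r := by
          rw [Finset.sum_const, Finset.card_univ, smul_eq_mul, ← Nat.card_eq_fintype_card, mul_comm]
      _ = ∑ x : T, (Nat.card {s : Exps r n // f s = x} + (if x = x₀ then r - 1 else 0)) :=
          Finset.sum_congr rfl fun x _ => (hval x).symm
      _ = _ := by rw [Finset.sum_add_distrib, ← hsum, Finset.sum_ite_eq', if_pos (Finset.mem_univ _)]
  · rw [if_neg hdvd, mul_zero, add_zero, hsum]
    have hval : ∀ x : T, Nat.card {s : Exps r n // f s = x} = r := by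
      intro x
      obtain ⟨s, rfl⟩ := hsurj x
      exact hfree s fun j hj h => hdvd ⟨_, (const_mul (const_count hj h) 0).symm⟩
    rw [Finset.sum_congr rfl fun x _ => hval x, Finset.sum_const, Finset.card_univ, smul_eq_mul,
      ← Nat.card_eq_fintype_card, mul_comm]

end Zeta

/-- The `r`-th powers in `Fˣ`. -/
def pows (r : ℕ) (F : Type*) [Field F] : Subgroup Fˣ := (powMonoidHom r).range

theorem index_pows [NeZero r] {ζ : F} (hζ : IsPrimitiveRoot ζ r) : (pows r F).index = r := by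
  have hk : Nat.card (powMonoidHom r : Fˣ →* Fˣ).ker = r := by
    rw [show (powMonoidHom r : Fˣ →* Fˣ).ker = rootsOfUnity r F from by ext; simp]
    exact IsPrimitiveRoot.card_rootsOfUnity hζ
  have h1 := (pows r F).index_mul_card
  have h2 := (powMonoidHom r : Fˣ →* Fˣ).ker.index_mul_card
  rw [Subgroup.index_ker, hk, ← h1, mul_comm] at h2
  exact (Nat.eq_of_mul_eq_mul_right Nat.card_pos h2).symm

theorem mem_pows_iff (c : Fˣ) : c ∈ pows r F ↔ ∃ b : Fˣ, b ^ r = c := Iff.rfl

theorem notMem_pows_iff (hr : 0 < r) (c : Fˣ) : c ∉ pows r F ↔ ∀ b : F, b ^ r ≠ c := by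
  rw [mem_pows_iff, not_exists]
  constructor
  · intro h b hb
    have hb0 : b ≠ 0 := by
      rintro rfl
      rw [zero_pow hr.ne'] at hb
      exact c.ne_zero hb.symm
    exact h (Units.mk0 b hb0) (Units.ext (by simpa using hb))
  · intro h b hb
    exact h b (by rw [← hb, Units.val_pow_eq_pow_val])

/-- Classes without a diagonalisable lift. -/
theorem card_nondiag_classes [Fact r.Prime] {ζ : F} (hζ : IsPrimitiveRoot ζ r) (hn : 2 ≤ n)
    (hr : (r : F) ≠ 0) :
    Nat.card {C : ConjClasses (PG n F) // ∃ g c, cls g = C ∧ g ^ r = sc n F c ∧ c ∉ pows r F} =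
      if r ∣ n then r - 1 else 0 := by
  classical
  haveI : NeZero r := ⟨(Fact.out : r.Prime).ne_zero⟩
  set T := {C : ConjClasses (PG n F) // ∃ g c, cls g = C ∧ g ^ r = sc n F c ∧ c ∉ pows r F}
  have hsame : ∀ {g h : GL (Fin n) F} {c d : Fˣ}, g ^ r = sc n F c → h ^ r = sc n F d →
      cls g = cls h → (c : Fˣ ⧸ pows r F) = (d : Fˣ ⧸ pows r F) := by
    intro g h c d hg hh hgh
    obtain ⟨u, hu⟩ := (cls_eq_iff (by omega)).1 hgh
    obtain ⟨w, hw⟩ := isConj_iff.1 hu
    have h1 : (g * sc n F u) ^ r = sc n F (c * u ^ r) := by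
      rw [((sc_comm u g).symm).mul_pow, hg, map_mul, map_pow]
    rw [← hw, conj_pow, h1, ← (sc_comm _ w).eq, mul_inv_cancel_right] at hh
    rw [QuotientGroup.eq, ← sc_injective (by omega) hh, inv_mul_cancel_left]
    exact ⟨u, rfl⟩
  by_cases hdvd : r ∣ n
  · rw [if_pos hdvd]
    have hcard : Nat.card {x : Fˣ ⧸ pows r F // x ≠ 1} = r - 1 := by
      haveI := Fintype.ofFinite (Fˣ ⧸ pows r F)
      rw [Nat.card_eq_fintype_card, Fintype.card_subtype_compl, Fintype.card_subtype_eq,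
        ← Nat.card_eq_fintype_card]
      show (pows r F).index - 1 = r - 1
      rw [index_pows hζ]
    rw [← hcard]
    refine Nat.card_congr (Equiv.ofBijective
      (fun C : T => (⟨(C.2.choose_spec.choose : Fˣ ⧸ pows r F), fun h =>
        C.2.choose_spec.choose_spec.2.2 ((QuotientGroup.eq_one_iff _).1 h)⟩ :
          {x : Fˣ ⧸ pows r F // x ≠ 1})) ⟨?_, ?_⟩)
    · intro C D hCD
      have h := congrArg Subtype.val hCD
      obtain ⟨hg, hgc, hc⟩ := C.2.choose_spec.choose_spec
      obtain ⟨hh, hhd, hd⟩ := D.2.choose_spec.choose_spec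
      simp only at h
      generalize C.2.choose = g, C.2.choose_spec.choose = c at hg hgc hc h
      generalize D.2.choose = g', D.2.choose_spec.choose = d at hh hhd hd h
      apply Subtype.ext
      rw [← hg, ← hh, cls_eq_iff (by omega)]
      obtain ⟨u, hu⟩ := (mem_pows_iff _).1 (QuotientGroup.eq.1 h)
      refine ⟨u, ?_⟩
      have hp : (g * sc n F u) ^ r = sc n F d := by
        rw [((sc_comm u g).symm).mul_pow, hgc, ← map_pow, hu, ← map_mul, mul_inv_cancel_left]
      have hd' := (notMem_pows_iff (NeZero.pos r) d).1 hd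
      refine isConj_of_pow hr hp hhd ?_
      obtain ⟨k, hk, h1⟩ := charpoly_nonpower Fact.out hp hd'
      obtain ⟨k', hk', h2⟩ := charpoly_nonpower Fact.out hhd hd'
      rw [h1, h2, Nat.eq_of_mul_eq_mul_left (NeZero.pos r) (hk.symm.trans hk')]
    · rintro ⟨x, hx⟩
      obtain ⟨c, rfl⟩ := QuotientGroup.mk_surjective x
      obtain ⟨g, hg⟩ := exists_pow_eq (F := F) (n := n) (NeZero.pos r) hdvd c
      let C : T := ⟨cls g, g, c, rfl, hg, fun h => hx ((QuotientGroup.eq_one_iff _).2 h)⟩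
      refine ⟨C, Subtype.ext ?_⟩
      obtain ⟨h1, h2, -⟩ := C.2.choose_spec.choose_spec
      exact hsame h2 hg h1
  · rw [if_neg hdvd, Nat.card_eq_zero]
    refine .inl ⟨?_⟩
    rintro ⟨C, g, c, -, hg, hc⟩
    obtain ⟨k, hk, -⟩ := charpoly_nonpower Fact.out hg ((notMem_pows_iff (NeZero.pos r) c).1 hc)
    exact hdvd ⟨k, hk⟩

/-- The total. -/
theorem card_classes [Fact r.Prime] {ζ : F} (hζ : IsPrimitiveRoot ζ r) (hn : 2 ≤ n) (hr : (r : F) ≠ 0) :
    Nat.card {C : ConjClasses (PG n F) // ∃ g, ConjClasses.mk g = C ∧ orderOf g = r} =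
      (Nat.choose (n + r - 1) (r - 1) - r - (if r ∣ n then 1 else 0)) / r +
        r * (if r ∣ n then 1 else 0) := by
  classical
  have hp : r.Prime := Fact.out
  haveI : NeZero r := ⟨hp.ne_zero⟩
  set A : ConjClasses (PG n F) → Prop := fun C =>
    ∃ g, cls g = C ∧ g ^ r = 1 ∧ ∀ c, g ≠ sc n F c
  set B : ConjClasses (PG n F) → Prop := fun C =>
    ∃ g c, cls g = C ∧ g ^ r = sc n F c ∧ c ∉ pows r F
  have hdisj : ∀ C, A C → B C → False := by
    rintro C ⟨g, rfl, hg, -⟩ ⟨h, c, hh, hhc, hc⟩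
    obtain ⟨u, hu⟩ := (cls_eq_iff (by omega)).1 hh.symm
    obtain ⟨w, hw⟩ := isConj_iff.1 hu
    have h1 : (g * sc n F u) ^ r = sc n F (u ^ r) := by
      rw [((sc_comm u g).symm).mul_pow, hg, one_mul, map_pow]
    rw [← hw, conj_pow, h1, ← (sc_comm _ w).eq, mul_inv_cancel_right] at hhc
    exact hc ⟨u, sc_injective (by omega) hhc⟩
  have hiff : ∀ C, (∃ g, ConjClasses.mk g = C ∧ orderOf g = r) ↔ A C ∨ B C := by
    intro C
    constructor
    · rintro ⟨x, rfl, hx⟩
      obtain ⟨g, rfl⟩ := QuotientGroup.mk_surjective x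
      obtain ⟨⟨c, hc⟩, hns⟩ := (orderOf_mk_eq_iff (by omega) hp g).1 hx
      by_cases hpw : c ∈ pows r F
      · obtain ⟨b, rfl⟩ := (mem_pows_iff c).1 hpw
        refine .inl ⟨g * sc n F b⁻¹, (cls_eq_iff (by omega)).2 ⟨b, ?_⟩, ?_, fun d hd => hns (d * b) ?_⟩
        · rw [mul_assoc, ← map_mul, inv_mul_cancel, map_one, mul_one]
        · rw [((sc_comm _ g).symm).mul_pow, hc, ← map_pow, ← map_mul, inv_pow, mul_inv_cancel, map_one]
        · rw [map_mul, ← hd, mul_assoc, ← map_mul, inv_mul_cancel, map_one, mul_one]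
      · exact .inr ⟨g, c, rfl, hc, hpw⟩
    · rintro (⟨g, rfl, hg, hns⟩ | ⟨g, c, rfl, hg, hc⟩)
      · exact ⟨_, rfl, (orderOf_mk_eq_iff (by omega) hp g).2 ⟨⟨1, by rw [map_one, hg]⟩, hns⟩⟩
      · refine ⟨_, rfl, (orderOf_mk_eq_iff (by omega) hp g).2 ⟨⟨c, hg⟩, fun d hd => ?_⟩⟩
        rw [hd, ← map_pow] at hg
        exact hc ⟨d, sc_injective (by omega) hg⟩
  rw [Nat.card_congr (Equiv.subtypeEquivRight hiff),
    Nat.card_congr (subtypeOrEquiv A B (Pi.disjoint_iff.2 fun C => disjoint_iff_inf_le.2 fun h =>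
      hdisj C h.1 h.2)), Nat.card_sum, card_nondiag_classes hζ hn hr]
  have h1 := card_diag_classes hζ hn hr
  rw [card_nonscalar (by omega) hp.pos] at h1
  generalize Nat.card {C // A C} = a at h1 ⊢
  have hr1 : 1 ≤ r := hp.pos
  split_ifs at h1 ⊢ with h
  · obtain ⟨a, rfl⟩ : ∃ b, a = b + 1 := Nat.exists_eq_add_one.2 (Nat.pos_of_ne_zero fun h0 => by
      rw [h0, mul_zero] at h1
      have := hp.two_le
      omega)
    rw [mul_add, mul_one] at h1
    rw [show Nat.choose (n + r - 1) (r - 1) - r - 1 = r * a by omega, Nat.mul_div_cancel_left _ hp.pos]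
    omega
  · rw [show Nat.choose (n + r - 1) (r - 1) - r - 0 = r * a by omega, Nat.mul_div_cancel_left _ hp.pos]
    omega

end Cfsg.Agent.PrimeClassPGL
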